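/-
Sign form for type E8, generated from `Cfsg.Lie.chevE8`.
-/
import Cfsg.Agent.Lib.Chev.Data.E8.Tab

set_option autoImplicit false
set_option maxRecDepth 20000
set_option linter.all false
set_option Elab.async false

namespace CfsgLib.Chev.DataE8

open Cfsg.Lie CfsgLib.Chev.Table

theorem chk_laced_join {lo m n : ℕ} (h1 : tab.chkLacedRange aux lo m = true)
    (h2 : tab.chkLacedRange aux (lo + m) n = true) : tab.chkLacedRange aux lo (m + n) = true :=
  allBelow_of fun k hk => by
    by_cases hkm : k < m
    · exact allBelow_spec h1 k hkm
    · have := allBelow_spec h2 (k - m) (by omega)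
      rwa [show lo + m + (k - m) = lo + k by omega] at this

theorem chk_laced0 : tab.chkLacedRange aux 0 15 = true := by decide +kernel
theorem chk_laced1 : tab.chkLacedRange aux 15 15 = true := by decide +kernel
theorem chk_laced2 : tab.chkLacedRange aux 30 15 = true := by decide +kernel
theorem chk_laced3 : tab.chkLacedRange aux 45 15 = true := by decide +kernel
theorem chk_laced4 : tab.chkLacedRange aux 60 15 = true := by decide +kernel
theorem chk_laced5 : tab.chkLacedRange aux 75 15 = true := by decide +kernel
theorem chk_laced6 : tab.chkLacedRange aux 90 15 = true := by decide +kernel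
theorem chk_laced7 : tab.chkLacedRange aux 105 15 = true := by decide +kernel
theorem chk_laced8 : tab.chkLacedRange aux 120 15 = true := by decide +kernel
theorem chk_laced9 : tab.chkLacedRange aux 135 15 = true := by decide +kernel
theorem chk_laced10 : tab.chkLacedRange aux 150 15 = true := by decide +kernel
theorem chk_laced11 : tab.chkLacedRange aux 165 15 = true := by decide +kernel
theorem chk_laced12 : tab.chkLacedRange aux 180 15 = true := by decide +kernel
theorem chk_laced13 : tab.chkLacedRange aux 195 15 = true := by decide +kernel
theorem chk_laced14 : tab.chkLacedRange aux 210 15 = true := by decide +kernel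
theorem chk_laced15 : tab.chkLacedRange aux 225 15 = true := by decide +kernel
theorem chk_laced_fst1 : tab.chkLacedRange aux 0 15 = true := chk_laced0
theorem chk_laced_fst2 : tab.chkLacedRange aux 0 30 = true :=
  chk_laced_join (m := 15) (n := 15) chk_laced_fst1 chk_laced1
theorem chk_laced_fst3 : tab.chkLacedRange aux 0 45 = true :=
  chk_laced_join (m := 30) (n := 15) chk_laced_fst2 chk_laced2
theorem chk_laced_fst4 : tab.chkLacedRange aux 0 60 = true :=
  chk_laced_join (m := 45) (n := 15) chk_laced_fst3 chk_laced3
theorem chk_laced_fst5 : tab.chkLacedRange aux 0 75 = true :=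
  chk_laced_join (m := 60) (n := 15) chk_laced_fst4 chk_laced4
theorem chk_laced_fst6 : tab.chkLacedRange aux 0 90 = true :=
  chk_laced_join (m := 75) (n := 15) chk_laced_fst5 chk_laced5
theorem chk_laced_fst7 : tab.chkLacedRange aux 0 105 = true :=
  chk_laced_join (m := 90) (n := 15) chk_laced_fst6 chk_laced6
theorem chk_laced_fst8 : tab.chkLacedRange aux 0 120 = true :=
  chk_laced_join (m := 105) (n := 15) chk_laced_fst7 chk_laced7
theorem chk_laced_snd1 : tab.chkLacedRange aux 120 15 = true := chk_laced8
theorem chk_laced_snd2 : tab.chkLacedRange aux 120 30 = true :=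
  chk_laced_join (m := 15) (n := 15) chk_laced_snd1 chk_laced9
theorem chk_laced_snd3 : tab.chkLacedRange aux 120 45 = true :=
  chk_laced_join (m := 30) (n := 15) chk_laced_snd2 chk_laced10
theorem chk_laced_snd4 : tab.chkLacedRange aux 120 60 = true :=
  chk_laced_join (m := 45) (n := 15) chk_laced_snd3 chk_laced11
theorem chk_laced_snd5 : tab.chkLacedRange aux 120 75 = true :=
  chk_laced_join (m := 60) (n := 15) chk_laced_snd4 chk_laced12
theorem chk_laced_snd6 : tab.chkLacedRange aux 120 90 = true :=
  chk_laced_join (m := 75) (n := 15) chk_laced_snd5 chk_laced13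
theorem chk_laced_snd7 : tab.chkLacedRange aux 120 105 = true :=
  chk_laced_join (m := 90) (n := 15) chk_laced_snd6 chk_laced14
theorem chk_laced_snd8 : tab.chkLacedRange aux 120 120 = true :=
  chk_laced_join (m := 105) (n := 15) chk_laced_snd7 chk_laced15
theorem chk_laced_fst : tab.chkLacedRange aux 0 120 = true := chk_laced_fst8
theorem chk_laced_snd : tab.chkLacedRange aux 120 120 = true := chk_laced_snd8

theorem laced_pairs : tab.LacedPairs aux := lacedPairs_of_two chk_laced_fst chk_laced_snd (by decide)

end CfsgLib.Chev.DataE8
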