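/-
Monomial matrices for type E8, generated from `Cfsg.Lie.chevE8`.
-/
import Cfsg.Agent.Lib.Chev.Data.E8.Tab

set_option autoImplicit false
set_option maxRecDepth 20000
set_option linter.all false
set_option Elab.async false

namespace CfsgLib.Chev.DataE8

open Cfsg.Lie CfsgLib.Chev.Table

theorem chk_nmat0 : tab.chkNMatAt 0 = true := by decide +kernel
theorem chk_nmat1 : tab.chkNMatAt 1 = true := by decide +kernel
theorem chk_nmat2 : tab.chkNMatAt 2 = true := by decide +kernel
theorem chk_nmat3 : tab.chkNMatAt 3 = true := by decide +kernel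
theorem chk_nmat4 : tab.chkNMatAt 4 = true := by decide +kernel
theorem chk_nmat5 : tab.chkNMatAt 5 = true := by decide +kernel
theorem chk_nmat6 : tab.chkNMatAt 6 = true := by decide +kernel
theorem chk_nmat7 : tab.chkNMatAt 7 = true := by decide +kernel
theorem chk_nmat : tab.chkNMat = true := allBelow_of fun i (hi : i < 8) =>
  match i, hi with
  | 0, _ => chk_nmat0
  | 1, _ => chk_nmat1
  | 2, _ => chk_nmat2
  | 3, _ => chk_nmat3
  | 4, _ => chk_nmat4
  | 5, _ => chk_nmat5
  | 6, _ => chk_nmat6
  | 7, _ => chk_nmat7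

end CfsgLib.Chev.DataE8
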